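import Cfsg.Agent.Lib.Perm.Deg11.Core
import Cfsg.Agent.Lib.Perm.Deg11.TabAData

set_option autoImplicit false
set_option maxRecDepth 100000

namespace Cfsg.Agent.Lib.Perm.Deg11

theorem pA2_0_0 : pc ok2 (lA2) 7 2 id 0 0 = true := by decide +kernel

theorem pA2_0_1 : pc ok2 (lA2) 7 2 id 0 1 = true := by decide +kernel

theorem pA2_0_2 : pc ok2 (lA2) 7 2 id 0 2 = true := by decide +kernel

theorem pA2_0_3 : pc ok2 (lA2) 7 2 id 0 3 = true := by decide +kernel

theorem pA2_0_4 : pc ok2 (lA2) 7 2 id 0 4 = true := by decide +kernel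

theorem pA2_0_5 : pc ok2 (lA2) 7 2 id 0 5 = true := by decide +kernel

theorem pA2_0_6 : pc ok2 (lA2) 7 2 id 0 6 = true := by decide +kernel

theorem pA2_0_7 : pc ok2 (lA2) 7 2 id 0 7 = true := by decide +kernel

theorem pA2_0_8 : pc ok2 (lA2) 7 2 id 0 8 = true := by decide +kernel

theorem pA2_0_9 : pc ok2 (lA2) 7 2 id 0 9 = true := by decide +kernel

theorem pA2_0_10 : pc ok2 (lA2) 7 2 id 0 10 = true := by decide +kernel

theorem pA2_1_0 : pc ok2 (lA2) 7 2 id 1 0 = true := by decide +kernel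

theorem pA2_1_1 : pc ok2 (lA2) 7 2 id 1 1 = true := by decide +kernel

theorem pA2_1_2 : pc ok2 (lA2) 7 2 id 1 2 = true := by decide +kernel

theorem pA2_1_3 : pc ok2 (lA2) 7 2 id 1 3 = true := by decide +kernel

theorem pA2_1_4 : pc ok2 (lA2) 7 2 id 1 4 = true := by decide +kernel

theorem pA2_1_5 : pc ok2 (lA2) 7 2 id 1 5 = true := by decide +kernel

theorem pA2_1_6 : pc ok2 (lA2) 7 2 id 1 6 = true := by decide +kernel

theorem pA2_1_7 : pc ok2 (lA2) 7 2 id 1 7 = true := by decide +kernel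

theorem pA2_1_8 : pc ok2 (lA2) 7 2 id 1 8 = true := by decide +kernel

theorem pA2_1_9 : pc ok2 (lA2) 7 2 id 1 9 = true := by decide +kernel

theorem pA2_1_10 : pc ok2 (lA2) 7 2 id 1 10 = true := by decide +kernel

theorem pA2_2_0 : pc ok2 (lA2) 7 2 id 2 0 = true := by decide +kernel

theorem pA2_2_1 : pc ok2 (lA2) 7 2 id 2 1 = true := by decide +kernel

theorem pA2_2_2 : pc ok2 (lA2) 7 2 id 2 2 = true := by decide +kernel

theorem pA2_2_3 : pc ok2 (lA2) 7 2 id 2 3 = true := by decide +kernel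

theorem pA2_2_4 : pc ok2 (lA2) 7 2 id 2 4 = true := by decide +kernel

theorem pA2_2_5 : pc ok2 (lA2) 7 2 id 2 5 = true := by decide +kernel

theorem pA2_2_6 : pc ok2 (lA2) 7 2 id 2 6 = true := by decide +kernel

theorem pA2_2_7 : pc ok2 (lA2) 7 2 id 2 7 = true := by decide +kernel

theorem pA2_2_8 : pc ok2 (lA2) 7 2 id 2 8 = true := by decide +kernel

theorem pA2_2_9 : pc ok2 (lA2) 7 2 id 2 9 = true := by decide +kernel

theorem pA2_2_10 : pc ok2 (lA2) 7 2 id 2 10 = true := by decide +kernel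

theorem pA2_3_0 : pc ok2 (lA2) 7 2 id 3 0 = true := by decide +kernel

theorem pA2_3_1 : pc ok2 (lA2) 7 2 id 3 1 = true := by decide +kernel

theorem pA2_3_2 : pc ok2 (lA2) 7 2 id 3 2 = true := by decide +kernel

theorem pA2_3_3 : pc ok2 (lA2) 7 2 id 3 3 = true := by decide +kernel

theorem pA2_3_4 : pc ok2 (lA2) 7 2 id 3 4 = true := by decide +kernel

theorem pA2_3_5 : pc ok2 (lA2) 7 2 id 3 5 = true := by decide +kernel

theorem pA2_3_6 : pc ok2 (lA2) 7 2 id 3 6 = true := by decide +kernel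

theorem pA2_3_7 : pc ok2 (lA2) 7 2 id 3 7 = true := by decide +kernel

theorem pA2_3_8 : pc ok2 (lA2) 7 2 id 3 8 = true := by decide +kernel

theorem pA2_3_9 : pc ok2 (lA2) 7 2 id 3 9 = true := by decide +kernel

theorem pA2_3_10 : pc ok2 (lA2) 7 2 id 3 10 = true := by decide +kernel

theorem pA2_4_0 : pc ok2 (lA2) 7 2 id 4 0 = true := by decide +kernel

theorem pA2_4_1 : pc ok2 (lA2) 7 2 id 4 1 = true := by decide +kernel

theorem pA2_4_2 : pc ok2 (lA2) 7 2 id 4 2 = true := by decide +kernel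

theorem pA2_4_3 : pc ok2 (lA2) 7 2 id 4 3 = true := by decide +kernel

theorem pA2_4_4 : pc ok2 (lA2) 7 2 id 4 4 = true := by decide +kernel

theorem pA2_4_5 : pc ok2 (lA2) 7 2 id 4 5 = true := by decide +kernel

theorem pA2_4_6 : pc ok2 (lA2) 7 2 id 4 6 = true := by decide +kernel

theorem pA2_4_7 : pc ok2 (lA2) 7 2 id 4 7 = true := by decide +kernel

theorem pA2_4_8 : pc ok2 (lA2) 7 2 id 4 8 = true := by decide +kernel

theorem pA2_4_9 : pc ok2 (lA2) 7 2 id 4 9 = true := by decide +kernel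

theorem pA2_4_10 : pc ok2 (lA2) 7 2 id 4 10 = true := by decide +kernel

theorem pA2_5_0 : pc ok2 (lA2) 7 2 id 5 0 = true := by decide +kernel

theorem pA2_5_1 : pc ok2 (lA2) 7 2 id 5 1 = true := by decide +kernel

theorem pA2_5_2 : pc ok2 (lA2) 7 2 id 5 2 = true := by decide +kernel

theorem pA2_5_3 : pc ok2 (lA2) 7 2 id 5 3 = true := by decide +kernel

theorem pA2_5_4 : pc ok2 (lA2) 7 2 id 5 4 = true := by decide +kernel

theorem pA2_5_5 : pc ok2 (lA2) 7 2 id 5 5 = true := by decide +kernel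

theorem pA2_5_6 : pc ok2 (lA2) 7 2 id 5 6 = true := by decide +kernel

theorem pA2_5_7 : pc ok2 (lA2) 7 2 id 5 7 = true := by decide +kernel

theorem pA2_5_8 : pc ok2 (lA2) 7 2 id 5 8 = true := by decide +kernel

theorem pA2_5_9 : pc ok2 (lA2) 7 2 id 5 9 = true := by decide +kernel

theorem pA2_5_10 : pc ok2 (lA2) 7 2 id 5 10 = true := by decide +kernel

theorem pA2_6_0 : pc ok2 (lA2) 7 2 id 6 0 = true := by decide +kernel

theorem pA2_6_1 : pc ok2 (lA2) 7 2 id 6 1 = true := by decide +kernel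

theorem pA2_6_2 : pc ok2 (lA2) 7 2 id 6 2 = true := by decide +kernel

theorem pA2_6_3 : pc ok2 (lA2) 7 2 id 6 3 = true := by decide +kernel

theorem pA2_6_4 : pc ok2 (lA2) 7 2 id 6 4 = true := by decide +kernel

theorem pA2_6_5 : pc ok2 (lA2) 7 2 id 6 5 = true := by decide +kernel

theorem pA2_6_6 : pc ok2 (lA2) 7 2 id 6 6 = true := by decide +kernel

theorem pA2_6_7 : pc ok2 (lA2) 7 2 id 6 7 = true := by decide +kernel

theorem pA2_6_8 : pc ok2 (lA2) 7 2 id 6 8 = true := by decide +kernel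

theorem pA2_6_9 : pc ok2 (lA2) 7 2 id 6 9 = true := by decide +kernel

theorem pA2_6_10 : pc ok2 (lA2) 7 2 id 6 10 = true := by decide +kernel

theorem pA2_7_0 : pc ok2 (lA2) 7 2 id 7 0 = true := by decide +kernel

theorem pA2_7_1 : pc ok2 (lA2) 7 2 id 7 1 = true := by decide +kernel

theorem pA2_7_2 : pc ok2 (lA2) 7 2 id 7 2 = true := by decide +kernel

theorem pA2_7_3 : pc ok2 (lA2) 7 2 id 7 3 = true := by decide +kernel

theorem pA2_7_4 : pc ok2 (lA2) 7 2 id 7 4 = true := by decide +kernel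

theorem pA2_7_5 : pc ok2 (lA2) 7 2 id 7 5 = true := by decide +kernel

theorem pA2_7_6 : pc ok2 (lA2) 7 2 id 7 6 = true := by decide +kernel

theorem pA2_7_7 : pc ok2 (lA2) 7 2 id 7 7 = true := by decide +kernel

theorem pA2_7_8 : pc ok2 (lA2) 7 2 id 7 8 = true := by decide +kernel

theorem pA2_7_9 : pc ok2 (lA2) 7 2 id 7 9 = true := by decide +kernel

theorem pA2_7_10 : pc ok2 (lA2) 7 2 id 7 10 = true := by decide +kernel

theorem pA2_8_0 : pc ok2 (lA2) 7 2 id 8 0 = true := by decide +kernel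

theorem pA2_8_1 : pc ok2 (lA2) 7 2 id 8 1 = true := by decide +kernel

theorem pA2_8_2 : pc ok2 (lA2) 7 2 id 8 2 = true := by decide +kernel

theorem pA2_8_3 : pc ok2 (lA2) 7 2 id 8 3 = true := by decide +kernel

theorem pA2_8_4 : pc ok2 (lA2) 7 2 id 8 4 = true := by decide +kernel

theorem pA2_8_5 : pc ok2 (lA2) 7 2 id 8 5 = true := by decide +kernel

theorem pA2_8_6 : pc ok2 (lA2) 7 2 id 8 6 = true := by decide +kernel

theorem pA2_8_7 : pc ok2 (lA2) 7 2 id 8 7 = true := by decide +kernel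

theorem pA2_8_8 : pc ok2 (lA2) 7 2 id 8 8 = true := by decide +kernel

theorem pA2_8_9 : pc ok2 (lA2) 7 2 id 8 9 = true := by decide +kernel

theorem pA2_8_10 : pc ok2 (lA2) 7 2 id 8 10 = true := by decide +kernel

theorem pA2_9_0 : pc ok2 (lA2) 7 2 id 9 0 = true := by decide +kernel

theorem pA2_9_1 : pc ok2 (lA2) 7 2 id 9 1 = true := by decide +kernel

theorem pA2_9_2 : pc ok2 (lA2) 7 2 id 9 2 = true := by decide +kernel

theorem pA2_9_3 : pc ok2 (lA2) 7 2 id 9 3 = true := by decide +kernel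

theorem pA2_9_4 : pc ok2 (lA2) 7 2 id 9 4 = true := by decide +kernel

theorem pA2_9_5 : pc ok2 (lA2) 7 2 id 9 5 = true := by decide +kernel

theorem pA2_9_6 : pc ok2 (lA2) 7 2 id 9 6 = true := by decide +kernel

theorem pA2_9_7 : pc ok2 (lA2) 7 2 id 9 7 = true := by decide +kernel

theorem pA2_9_8 : pc ok2 (lA2) 7 2 id 9 8 = true := by decide +kernel

theorem pA2_9_9 : pc ok2 (lA2) 7 2 id 9 9 = true := by decide +kernel

theorem pA2_9_10 : pc ok2 (lA2) 7 2 id 9 10 = true := by decide +kernel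

theorem pA2_10_0 : pc ok2 (lA2) 7 2 id 10 0 = true := by decide +kernel

theorem pA2_10_1 : pc ok2 (lA2) 7 2 id 10 1 = true := by decide +kernel

theorem pA2_10_2 : pc ok2 (lA2) 7 2 id 10 2 = true := by decide +kernel

theorem pA2_10_3 : pc ok2 (lA2) 7 2 id 10 3 = true := by decide +kernel

theorem pA2_10_4 : pc ok2 (lA2) 7 2 id 10 4 = true := by decide +kernel

theorem pA2_10_5 : pc ok2 (lA2) 7 2 id 10 5 = true := by decide +kernel

theorem pA2_10_6 : pc ok2 (lA2) 7 2 id 10 6 = true := by decide +kernel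

theorem pA2_10_7 : pc ok2 (lA2) 7 2 id 10 7 = true := by decide +kernel

theorem pA2_10_8 : pc ok2 (lA2) 7 2 id 10 8 = true := by decide +kernel

theorem pA2_10_9 : pc ok2 (lA2) 7 2 id 10 9 = true := by decide +kernel

theorem pA2_10_10 : pc ok2 (lA2) 7 2 id 10 10 = true := by decide +kernel


end Cfsg.Agent.Lib.Perm.Deg11
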