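import Cfsg.Agent.Lib.Perm.Deg11.Core
import Cfsg.Agent.Lib.Perm.Deg11.TabAData

set_option autoImplicit false
set_option maxRecDepth 100000

namespace Cfsg.Agent.Lib.Perm.Deg11

theorem pA3_8_0 : pc ok3 (lA3) 7 2 id 8 0 = true := by decide +kernel

theorem pA3_8_1 : pc ok3 (lA3) 7 2 id 8 1 = true := by decide +kernel

theorem pA3_8_2 : pc ok3 (lA3) 7 2 id 8 2 = true := by decide +kernel

theorem pA3_8_3 : pc ok3 (lA3) 7 2 id 8 3 = true := by decide +kernel

theorem pA3_8_4 : pc ok3 (lA3) 7 2 id 8 4 = true := by decide +kernel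

theorem pA3_8_5 : pc ok3 (lA3) 7 2 id 8 5 = true := by decide +kernel

theorem pA3_8_6 : pc ok3 (lA3) 7 2 id 8 6 = true := by decide +kernel

theorem pA3_8_7 : pc ok3 (lA3) 7 2 id 8 7 = true := by decide +kernel

theorem pA3_8_8 : pc ok3 (lA3) 7 2 id 8 8 = true := by decide +kernel

theorem pA3_8_9 : pc ok3 (lA3) 7 2 id 8 9 = true := by decide +kernel

theorem pA3_8_10 : pc ok3 (lA3) 7 2 id 8 10 = true := by decide +kernel

theorem pA3_9_0 : pc ok3 (lA3) 7 2 id 9 0 = true := by decide +kernel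

theorem pA3_9_1 : pc ok3 (lA3) 7 2 id 9 1 = true := by decide +kernel

theorem pA3_9_2 : pc ok3 (lA3) 7 2 id 9 2 = true := by decide +kernel

theorem pA3_9_3 : pc ok3 (lA3) 7 2 id 9 3 = true := by decide +kernel

theorem pA3_9_4 : pc ok3 (lA3) 7 2 id 9 4 = true := by decide +kernel

theorem pA3_9_5 : pc ok3 (lA3) 7 2 id 9 5 = true := by decide +kernel

theorem pA3_9_6 : pc ok3 (lA3) 7 2 id 9 6 = true := by decide +kernel

theorem pA3_9_7 : pc ok3 (lA3) 7 2 id 9 7 = true := by decide +kernel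

theorem pA3_9_8 : pc ok3 (lA3) 7 2 id 9 8 = true := by decide +kernel

theorem pA3_9_9 : pc ok3 (lA3) 7 2 id 9 9 = true := by decide +kernel

theorem pA3_9_10 : pc ok3 (lA3) 7 2 id 9 10 = true := by decide +kernel

theorem pA3_10_0 : pc ok3 (lA3) 7 2 id 10 0 = true := by decide +kernel

theorem pA3_10_1 : pc ok3 (lA3) 7 2 id 10 1 = true := by decide +kernel

theorem pA3_10_2 : pc ok3 (lA3) 7 2 id 10 2 = true := by decide +kernel

theorem pA3_10_3 : pc ok3 (lA3) 7 2 id 10 3 = true := by decide +kernel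

theorem pA3_10_4 : pc ok3 (lA3) 7 2 id 10 4 = true := by decide +kernel

theorem pA3_10_5 : pc ok3 (lA3) 7 2 id 10 5 = true := by decide +kernel

theorem pA3_10_6 : pc ok3 (lA3) 7 2 id 10 6 = true := by decide +kernel

theorem pA3_10_7 : pc ok3 (lA3) 7 2 id 10 7 = true := by decide +kernel

theorem pA3_10_8 : pc ok3 (lA3) 7 2 id 10 8 = true := by decide +kernel

theorem pA3_10_9 : pc ok3 (lA3) 7 2 id 10 9 = true := by decide +kernel

theorem pA3_10_10 : pc ok3 (lA3) 7 2 id 10 10 = true := by decide +kernel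

theorem pA3_0_0 : pc ok3 (lA3) 7 2 id 0 0 = true := by decide +kernel

theorem pA3_0_1 : pc ok3 (lA3) 7 2 id 0 1 = true := by decide +kernel

theorem pA3_0_2 : pc ok3 (lA3) 7 2 id 0 2 = true := by decide +kernel

theorem pA3_0_3 : pc ok3 (lA3) 7 2 id 0 3 = true := by decide +kernel

theorem pA3_0_4 : pc ok3 (lA3) 7 2 id 0 4 = true := by decide +kernel

theorem pA3_0_5 : pc ok3 (lA3) 7 2 id 0 5 = true := by decide +kernel

theorem pA3_0_6 : pc ok3 (lA3) 7 2 id 0 6 = true := by decide +kernel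

theorem pA3_0_7 : pc ok3 (lA3) 7 2 id 0 7 = true := by decide +kernel

theorem pA3_0_8 : pc ok3 (lA3) 7 2 id 0 8 = true := by decide +kernel

theorem pA3_0_9 : pc ok3 (lA3) 7 2 id 0 9 = true := by decide +kernel

theorem pA3_0_10 : pc ok3 (lA3) 7 2 id 0 10 = true := by decide +kernel

theorem pA3_1_0 : pc ok3 (lA3) 7 2 id 1 0 = true := by decide +kernel

theorem pA3_1_1 : pc ok3 (lA3) 7 2 id 1 1 = true := by decide +kernel

theorem pA3_1_2 : pc ok3 (lA3) 7 2 id 1 2 = true := by decide +kernel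

theorem pA3_1_3 : pc ok3 (lA3) 7 2 id 1 3 = true := by decide +kernel

theorem pA3_1_4 : pc ok3 (lA3) 7 2 id 1 4 = true := by decide +kernel

theorem pA3_1_5 : pc ok3 (lA3) 7 2 id 1 5 = true := by decide +kernel

theorem pA3_1_6 : pc ok3 (lA3) 7 2 id 1 6 = true := by decide +kernel

theorem pA3_1_7 : pc ok3 (lA3) 7 2 id 1 7 = true := by decide +kernel

theorem pA3_1_8 : pc ok3 (lA3) 7 2 id 1 8 = true := by decide +kernel

theorem pA3_1_9 : pc ok3 (lA3) 7 2 id 1 9 = true := by decide +kernel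

theorem pA3_1_10 : pc ok3 (lA3) 7 2 id 1 10 = true := by decide +kernel


end Cfsg.Agent.Lib.Perm.Deg11
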