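import Cfsg.Agent.Lib.Perm.Deg11.Core
import Cfsg.Agent.Lib.Perm.Deg11.TabAP2
import Cfsg.Agent.Lib.Perm.Deg11.TabAP3a
import Cfsg.Agent.Lib.Perm.Deg11.TabAP3b
import Cfsg.Agent.Lib.Perm.Deg11.TabAP3c

set_option autoImplicit false
set_option maxRecDepth 100000

namespace Cfsg.Agent.Lib.Perm.Deg11

theorem cA2 : chk ok2 (lA2) 9 2 id = true := by
  apply chk_split
  intro v hv w hw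
  interval_cases v <;> interval_cases w
  exacts [pA2_0_0, pA2_0_1, pA2_0_2, pA2_0_3, pA2_0_4, pA2_0_5, pA2_0_6, pA2_0_7, pA2_0_8, pA2_0_9, pA2_0_10, pA2_1_0, pA2_1_1, pA2_1_2, pA2_1_3, pA2_1_4, pA2_1_5, pA2_1_6, pA2_1_7, pA2_1_8, pA2_1_9, pA2_1_10, pA2_2_0, pA2_2_1, pA2_2_2, pA2_2_3, pA2_2_4, pA2_2_5, pA2_2_6, pA2_2_7, pA2_2_8, pA2_2_9, pA2_2_10, pA2_3_0, pA2_3_1, pA2_3_2, pA2_3_3, pA2_3_4, pA2_3_5, pA2_3_6, pA2_3_7, pA2_3_8, pA2_3_9, pA2_3_10, pA2_4_0, pA2_4_1, pA2_4_2, pA2_4_3, pA2_4_4, pA2_4_5, pA2_4_6, pA2_4_7, pA2_4_8, pA2_4_9, pA2_4_10, pA2_5_0, pA2_5_1, pA2_5_2, pA2_5_3, pA2_5_4, pA2_5_5, pA2_5_6, pA2_5_7, pA2_5_8, pA2_5_9, pA2_5_10, pA2_6_0, pA2_6_1, pA2_6_2, pA2_6_3, pA2_6_4, pA2_6_5, pA2_6_6, pA2_6_7, pA2_6_8, pA2_6_9,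 pA2_6_10, pA2_7_0, pA2_7_1, pA2_7_2, pA2_7_3, pA2_7_4, pA2_7_5, pA2_7_6, pA2_7_7, pA2_7_8, pA2_7_9, pA2_7_10, pA2_8_0, pA2_8_1, pA2_8_2, pA2_8_3, pA2_8_4, pA2_8_5, pA2_8_6, pA2_8_7, pA2_8_8, pA2_8_9, pA2_8_10, pA2_9_0, pA2_9_1, pA2_9_2, pA2_9_3, pA2_9_4, pA2_9_5, pA2_9_6, pA2_9_7, pA2_9_8, pA2_9_9, pA2_9_10, pA2_10_0, pA2_10_1, pA2_10_2, pA2_10_3, pA2_10_4, pA2_10_5, pA2_10_6, pA2_10_7, pA2_10_8, pA2_10_9, pA2_10_10]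

theorem cA3 : chk ok3 (lA3) 9 2 id = true := by
  apply chk_split
  intro v hv w hw
  interval_cases v <;> interval_cases w
  exacts [pA3_0_0, pA3_0_1, pA3_0_2, pA3_0_3, pA3_0_4, pA3_0_5, pA3_0_6, pA3_0_7, pA3_0_8, pA3_0_9, pA3_0_10, pA3_1_0, pA3_1_1, pA3_1_2, pA3_1_3, pA3_1_4, pA3_1_5, pA3_1_6, pA3_1_7, pA3_1_8, pA3_1_9, pA3_1_10, pA3_2_0, pA3_2_1, pA3_2_2, pA3_2_3, pA3_2_4, pA3_2_5, pA3_2_6, pA3_2_7, pA3_2_8, pA3_2_9, pA3_2_10, pA3_3_0, pA3_3_1, pA3_3_2, pA3_3_3, pA3_3_4, pA3_3_5, pA3_3_6, pA3_3_7, pA3_3_8, pA3_3_9, pA3_3_10, pA3_4_0, pA3_4_1, pA3_4_2, pA3_4_3, pA3_4_4, pA3_4_5, pA3_4_6, pA3_4_7, pA3_4_8, pA3_4_9, pA3_4_10, pA3_5_0, pA3_5_1, pA3_5_2, pA3_5_3, pA3_5_4, pA3_5_5, pA3_5_6, pA3_5_7, pA3_5_8, pA3_5_9, pA3_5_10, pA3_6_0,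 pA3_6_1, pA3_6_2, pA3_6_3, pA3_6_4, pA3_6_5, pA3_6_6, pA3_6_7, pA3_6_8, pA3_6_9, pA3_6_10, pA3_7_0, pA3_7_1, pA3_7_2, pA3_7_3, pA3_7_4, pA3_7_5, pA3_7_6, pA3_7_7, pA3_7_8, pA3_7_9, pA3_7_10, pA3_8_0, pA3_8_1, pA3_8_2, pA3_8_3, pA3_8_4, pA3_8_5, pA3_8_6, pA3_8_7, pA3_8_8, pA3_8_9, pA3_8_10, pA3_9_0, pA3_9_1, pA3_9_2, pA3_9_3, pA3_9_4, pA3_9_5, pA3_9_6, pA3_9_7, pA3_9_8, pA3_9_9, pA3_9_10, pA3_10_0, pA3_10_1, pA3_10_2, pA3_10_3, pA3_10_4, pA3_10_5, pA3_10_6, pA3_10_7, pA3_10_8, pA3_10_9, pA3_10_10]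


end Cfsg.Agent.Lib.Perm.Deg11
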